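import Mathlib

/-!
Two-groups generated by elements whose square lies in the derived group.
-/

set_option autoImplicit false

namespace Cfsg.Agent.LieSylow

variable {G H : Type*} [Group G] [Group H]

/-- `S` is generated by its elements with square in `⁅S, S⁆`. -/
def GoodGen (S : Subgroup G) : Prop :=
  S ≤ Subgroup.closure {x | x ∈ S ∧ x ^ 2 ∈ ⁅S, S⁆}

theorem goodGen_of_le_closure {S : Subgroup G} {X : Set G} (hX : X ⊆ S) (hsq : ∀ x ∈ X, x ^ 2 ∈ ⁅S, S⁆)
    (hle : S ≤ Subgroup.closure X) : GoodGen S :=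
  hle.trans (Subgroup.closure_mono fun x hx => ⟨hX hx, hsq x hx⟩)

theorem goodGen_of_forall {S : Subgroup G} (h : ∀ x ∈ S, x ^ 2 ∈ ⁅S, S⁆) : GoodGen S :=
  goodGen_of_le_closure (subset_refl _) h (Subgroup.closure_eq S).ge

theorem goodGen_of_sq {S : Subgroup G} (h : ∀ x ∈ S, x ^ 2 = 1) : GoodGen S :=
  goodGen_of_forall fun x hx => by rw [h x hx]; exact one_mem _

theorem goodGen_bot : GoodGen (⊥ : Subgroup G) :=
  goodGen_of_sq fun x hx => by rw [Subgroup.mem_bot.1 hx, one_pow]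

theorem GoodGen.sup {A S : Subgroup G} (hA : GoodGen A) (hS : GoodGen S) : GoodGen (A ⊔ S) := by
  refine sup_le (hA.trans (Subgroup.closure_mono ?_)) (hS.trans (Subgroup.closure_mono ?_))
  · exact fun x hx => ⟨Subgroup.mem_sup_left hx.1, Subgroup.commutator_mono le_sup_left le_sup_left hx.2⟩
  · exact fun x hx => ⟨Subgroup.mem_sup_right hx.1, Subgroup.commutator_mono le_sup_right le_sup_right hx.2⟩

theorem GoodGen.map {S : Subgroup G} (hS : GoodGen S) (f : G →* H) : GoodGen (S.map f) := by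
  refine (Subgroup.map_mono (f := f) hS).trans ?_
  rw [MonoidHom.map_closure]
  refine Subgroup.closure_mono ?_
  rintro _ ⟨x, hx, rfl⟩
  refine ⟨⟨x, hx.1, rfl⟩, ?_⟩
  rw [← Subgroup.map_commutator, ← map_pow]
  exact ⟨_, hx.2, rfl⟩

/-- All Sylow 2-subgroups are generated by such elements. -/
def SylowGood (G : Type*) [Group G] : Prop := ∀ P : Sylow 2 G, GoodGen (P : Subgroup G)

theorem SylowGood.sq_mem (h : SylowGood G) (P : Sylow 2 G) :
    ∀ x : (P : Subgroup G), x ^ 2 ∈ commutator (P : Subgroup G) := by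
  set S : Subgroup G := (P : Subgroup G)
  intro x
  set π := Abelianization.of (G := S) with hπ
  have hX : ∀ y : G, y ∈ S → ∀ hy : y ∈ S, π ⟨y, hy⟩ ^ 2 = 1 := fun y hy' => by
    refine Subgroup.closure_induction (p := fun y _ => ∀ hy : y ∈ S, π ⟨y, hy⟩ ^ 2 = 1) ?_ ?_ ?_ ?_ (h P hy')
    · rintro y ⟨-, hy2⟩ hy
      rw [← map_pow, ← MonoidHom.mem_ker, hπ, Abelianization.ker_of]
      rw [← Subgroup.map_subtype_commutator] at hy2
      obtain ⟨z, hz, e⟩ := hy2
      rwa [show (⟨y, hy⟩ : S) ^ 2 = z from Subtype.ext e.symm]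
    · intro hy
      rw [show (⟨1, hy⟩ : S) = 1 from rfl, map_one, one_pow]
    · intro a b ha hb iha ihb hab
      have ha' : a ∈ S := (Subgroup.closure_le S).2 (fun z hz => hz.1) ha
      have hb' : b ∈ S := (Subgroup.closure_le S).2 (fun z hz => hz.1) hb
      rw [show (⟨a * b, hab⟩ : S) = ⟨a, ha'⟩ * ⟨b, hb'⟩ from rfl, map_mul, mul_pow, iha ha', ihb hb', one_mul]
    · intro a ha iha hai
      have ha' : a ∈ S := by simpa using inv_mem hai
      rw [show (⟨a⁻¹, hai⟩ : S) = ⟨a, ha'⟩⁻¹ from rfl, map_inv, inv_pow, iha ha', inv_one]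
  have := hX x x.2 x.2
  rwa [← map_pow, ← MonoidHom.mem_ker, hπ, Abelianization.ker_of] at this

/-- Enough: every 2-subgroup lies in a good 2-subgroup. -/
theorem sylowGood_of_exists (h : ∀ R : Subgroup G, IsPGroup 2 R → ∃ S : Subgroup G, R ≤ S ∧ IsPGroup 2 S ∧ GoodGen S) :
    SylowGood G := fun P => by
  obtain ⟨S, hPS, hS, hg⟩ := h P P.2
  rwa [P.3 hS hPS] at hg

theorem sylowGood_of_one [Finite G] (P₀ : Sylow 2 G) (h : GoodGen (P₀ : Subgroup G)) : SylowGood G := fun P => by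
  haveI := Fact.mk Nat.prime_two
  obtain ⟨g, rfl⟩ := MulAction.exists_smul_eq G P₀ P
  exact h.map (MulAut.conj g).toMonoidHom

theorem SylowGood.of_surjective [Finite G] (h : SylowGood G) {f : G →* H} (hf : Function.Surjective f) :
    SylowGood H := by
  haveI := Fact.mk Nat.prime_two
  haveI : Finite H := Finite.of_surjective f hf
  obtain ⟨P⟩ := (inferInstance : Nonempty (Sylow 2 G))
  exact sylowGood_of_one (P.mapSurjective hf) ((h P).map f)

theorem SylowGood.of_equiv [Finite G] (h : SylowGood G) (e : G ≃* H) : SylowGood H :=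
  h.of_surjective (f := e.toMonoidHom) e.surjective

/-- The recursion step: `A` is normalised by `L` and `K'` complements it. -/
theorem step {R L A K' : Subgroup G} (hR : IsPGroup 2 R) (hRL : R ≤ L) (hA : IsPGroup 2 A) (hAg : GoodGen A)
    (hnorm : ∀ g ∈ L, ∀ a ∈ A, g * a * g⁻¹ ∈ A) (hK' : K' ≤ L) (hsplit : ∀ g ∈ L, ∃ a ∈ A, a * g ∈ K')
    (ih : ∀ R' : Subgroup G, IsPGroup 2 R' → R' ≤ K' → ∃ S, R' ≤ S ∧ S ≤ K' ∧ IsPGroup 2 S ∧ GoodGen S) :
    ∃ S, R ≤ S ∧ S ≤ A ⊔ K' ∧ IsPGroup 2 S ∧ GoodGen S := by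
  have hn : L ≤ Subgroup.normalizer (A : Set G) := fun g hg => Subgroup.mem_normalizer_iff.2 fun a =>
    ⟨hnorm g hg a, fun ha => by
      have := hnorm g⁻¹ (inv_mem hg) _ ha
      rwa [inv_inv, show g⁻¹ * (g * a * g⁻¹) * g = a by group] at this⟩
  have hRA : IsPGroup 2 (A ⊔ R : Subgroup G) := by
    rw [sup_comm]
    exact hR.to_sup_of_normal_right' hA (hRL.trans hn)
  obtain ⟨S', hS', hS'K, hS'p, hS'g⟩ := ih _ (hRA.to_le inf_le_left) (inf_le_right : (A ⊔ R) ⊓ K' ≤ K')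
  refine ⟨A ⊔ S', fun g hg => ?_, sup_le_sup_left hS'K A, ?_, hAg.sup hS'g⟩
  · obtain ⟨a, ha, hag⟩ := hsplit g (hRL hg)
    have h1 : a * g ∈ S' := hS' ⟨mul_mem (Subgroup.mem_sup_left ha) (Subgroup.mem_sup_right hg), hag⟩
    rw [show g = a⁻¹ * (a * g) by group]
    exact mul_mem (Subgroup.mem_sup_left (inv_mem ha)) (Subgroup.mem_sup_right h1)
  · rw [sup_comm]
    exact hS'p.to_sup_of_normal_right' hA ((hS'K.trans hK').trans hn)

end Cfsg.Agent.LieSylow
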