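import Cfsg.Agent.Lib.LieSylow.Core
import Cfsg.Agent.Lib.Chev.Normal
import Cfsg.Agent.Lib.Chev.TwE6Thm
import Cfsg.Agent.Lib.Chev.TwD4Thm
import Cfsg.Agent.Lib.Chev.TwF4Thm
import Cfsg.Agent.Lib.Suzuki.Sylow
import Cfsg.Agent.Lib.Suzuki.LieIso
import Cfsg.Agent.S1066
import Cfsg.Agent.S1067
import Cfsg.Agent.S1068

/-!
Sylow 2-subgroups of exceptional and twisted groups in characteristic two: generation by root elements.
-/

set_option autoImplicit false
set_option linter.style.haveILetI false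

namespace Cfsg.Agent.LieSylow

open Cfsg.Lie Cfsg.Agent.Chev
open scoped commutatorElement

theorem map_subtype_subgroupOf {G : Type*} [Group G] {U K : Subgroup G} (h : U ≤ K) :
    (U.subgroupOf K).map K.subtype = U := by
  rw [Subgroup.subgroupOf_map_subtype, inf_eq_left.2 h]

theorem GoodGen.subgroupOf {G : Type*} [Group G] {U K : Subgroup G} (hU : GoodGen U) (h : U ≤ K) :
    GoodGen (U.subgroupOf K) := by
  have hm := map_subtype_subgroupOf h
  intro x hx
  have h1 : (K.subtype x) ∈ U := hx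
  have h2 : U ≤ (Subgroup.closure {x | x ∈ U.subgroupOf K ∧ x ^ 2 ∈ ⁅U.subgroupOf K, U.subgroupOf K⁆}).map K.subtype := by
    refine hU.trans ?_
    rw [MonoidHom.map_closure]
    refine Subgroup.closure_mono ?_
    rintro y ⟨hy, hy2⟩
    refine ⟨⟨y, h hy⟩, ⟨hy, ?_⟩, rfl⟩
    rw [← hm, ← Subgroup.map_commutator] at hy2
    obtain ⟨z, hz, e⟩ := hy2
    rwa [show (⟨y, h hy⟩ : K) ^ 2 = z from Subtype.ext e.symm]
  obtain ⟨z, hz, e⟩ := h2 h1
  rwa [← Subgroup.subtype_injective K e]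

/-- A Sylow subgroup recognised by its order. -/
theorem sylowGood_of_card {G : Type*} [Group G] [Finite G] {U : Subgroup G} {f a c M : ℕ}
    (hU : Nat.card U = (2 ^ f) ^ a) (h : c * Nat.card G = (2 ^ f) ^ a * M) (hM : ¬ 2 ∣ M) (hg : GoodGen U) :
    SylowGood G := by
  haveI := Fact.mk Nat.prime_two
  have hp : IsPGroup 2 U := IsPGroup.of_card (n := f * a) (by rw [hU, pow_mul])
  have hi : ¬ 2 ∣ U.index := by
    intro hd
    refine hM (hd.trans (Dvd.intro_left c ?_))
    rw [← U.card_mul_index, hU] at h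
    refine Nat.eq_of_mul_eq_mul_left (pow_pos (pow_pos two_pos f) a) ?_
    rw [← h]; ring
  exact sylowGood_of_one (hp.toSylow hi) (by simpa using hg)

variable {D : ChevalleyDatum} {P : Pk} {F : Type*} [Field F]

/-- Chevalley groups. -/
theorem chev [Fintype F] [CharP F 2] (h : Ok D P) (hC : P.ckComm = true) : SylowGood (D.group F) := by
  haveI := Fact.mk Nat.prime_two
  obtain ⟨S, hS⟩ := h.pos_sylow (F := F) 2 hC
  refine sylowGood_of_one S ?_
  rw [hS]
  refine GoodGen.subgroupOf ?_ fun x hx => h.borel_le_group (Subgroup.mem_sup_left hx)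
  rw [h.posUnipotent_eq]
  refine goodGen_of_le_closure Subgroup.subset_closure ?_ le_rfl
  rintro _ ⟨r, t, -, rfl⟩
  rw [pow_two, h.xG_add, CharTwo.add_self_eq_zero, h.xG_zero]
  exact one_mem _

variable {h : Ok D P} {T : Twist h F} (G : TwistGrp T)

/-- A twisted group: the root groups of the orbits suffice. -/
theorem twisted_pos (hC : P.ckComm = true) (horb : ∀ o ∈ G.O.orbs, GoodGen (G.Uw o.2)) :
    GoodGen (D.posUnipotent F ⊓ T.fixed) := by
  obtain ⟨l, hl, hc, htop⟩ := TwistGrp.exists_top (T := T)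
  have e : D.posUnipotent F ⊓ T.fixed = G.Uw l := by
    unfold TwistGrp.Uw
    rw [h.posUnipotent_eq]
    congr 1
    exact le_antisymm (h.genR_mono fun r hr => ⟨hr, htop r hr⟩) (h.genR_mono fun r hr => hr.1)
  rw [e]
  refine G.O.comm_induction (Q := fun l => GoodGen (G.Uw l)) (fun l _ htriv => ?_)
    (fun o ho l l' hl hl' hc' hpos e ih => ?_) l hl hc
  · rw [G.Uw_bot htriv]; exact goodGen_bot
  · rw [G.Uw_congr e]
    obtain ⟨Φ, hΦ⟩ := G.split hC ho hl' hc' hpos
    have hU : G.Uw (l' ++ o.2) =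
        G.Uw o.2 ⊔ (G.Uw l').map (MulAut.conj (h.nW (F := F) o.2)⁻¹).toMonoidHom := by
      refine le_antisymm (fun g hg => ?_) (sup_le (fun g hg => ?_) ?_)
      · obtain ⟨p, hp⟩ := Φ.surjective ⟨g, hg⟩
        have := hΦ p
        rw [hp] at this
        simp only at this
        rw [this]
        exact mul_mem (Subgroup.mem_sup_left p.1.2) (Subgroup.mem_sup_right ⟨p.2.1, p.2.2, by simp [mul_assoc]⟩)
      · have h1 := hΦ (⟨g, hg⟩, 1)
        simp only [OneMemClass.coe_one, mul_one, inv_mul_cancel] at h1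
        rw [← h1]; exact (Φ _).2
      · rintro _ ⟨g, hg, rfl⟩
        have h1 := hΦ (1, ⟨g, hg⟩)
        simp only [OneMemClass.coe_one, one_mul] at h1
        have h2 := (Φ (1, ⟨g, hg⟩)).2
        rw [h1] at h2
        simpa [mul_assoc] using h2
    rw [hU]
    exact (horb o ho).sup (ih.map _)

theorem odd_sub {f i : ℕ} (hf : 1 ≤ f) (hi : 1 ≤ i) : Odd ((2 ^ f) ^ i - 1) := by
  obtain ⟨k, hk⟩ : Even ((2 ^ f) ^ i : ℕ) :=
    ((even_two.pow_of_ne_zero (by omega)).pow_of_ne_zero (by omega))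
  have : 0 < ((2 : ℕ) ^ f) ^ i := pow_pos (pow_pos two_pos f) i
  exact ⟨k - 1, by omega⟩

theorem odd_add {f i : ℕ} (hf : 1 ≤ f) (hi : 1 ≤ i) : Odd ((2 ^ f) ^ i + 1) :=
  ((even_two.pow_of_ne_zero (by omega)).pow_of_ne_zero (by omega)).add_one

theorem exists_pow {K : Type*} [Field K] [Fintype K] [CharP K 2] {q k : ℕ} (hk : 1 ≤ k)
    (hK : Fintype.card K = q ^ k) : ∃ f, 1 ≤ f ∧ q = 2 ^ f := by
  obtain ⟨n, -, e⟩ := FiniteField.card K 2
  obtain ⟨f, -, rfl⟩ := (Nat.dvd_prime_pow Nat.prime_two).1 (e ▸ hK ▸ dvd_pow_self q (by omega) : q ∣ 2 ^ (n : ℕ))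
  refine ⟨f, ?_, rfl⟩
  by_contra hf
  rw [show f = 0 by omega, pow_zero, one_pow] at hK
  exact absurd hK Fintype.one_lt_card.ne'

theorem twE6 {K : Type*} [Field K] [Fintype K] [CharP K 2] {q : ℕ} (hq : IsPrimePow q)
    (hK : Fintype.card K = q ^ 2) : SylowGood (twistedE6 K q) := by
  obtain ⟨φ, G, hφ, hG, hO⟩ := TwE6.setup hq hK
  have hU := twisted_pos G ckComm_E6 fun o ho => goodGen_of_sq fun x hx => by
    rcases TwE6.Uw_forms φ (hO ▸ ho) hx with ⟨a, ha, t, -, rfl⟩ | ⟨ab, hab, t, rfl⟩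
    · rw [pow_two, E6.ok.xG_add, CharTwo.add_self_eq_zero, E6.ok.xG_zero]
    · have hc : Commute (E6.ok.xG ab.1 t) (E6.ok.xG ab.2 (φ t) : GL chevE6.Idx K) :=
        E6.ok.commute_xG ckComm_E6
          (by fin_cases hab <;> decide +kernel) _ _
      rw [hc.mul_pow, pow_two, pow_two, E6.ok.xG_add, E6.ok.xG_add, CharTwo.add_self_eq_zero,
        CharTwo.add_self_eq_zero, E6.ok.xG_zero, E6.ok.xG_zero, mul_one]
  have hle := G.pos_fixed_le ckComm_E6
  rw [hG] at hle
  obtain ⟨f, hf, rfl⟩ := exists_pow (K := K) (by norm_num) hK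
  refine sylowGood_of_card (f := f) (a := 36)
    (U := (chevE6.posUnipotent K ⊓ (TwE6.T φ).fixed).subgroupOf (twistedE6 K (2 ^ f)))
    ?_ ((S1066.result hq hK).trans (by simp only [mul_assoc]; rfl)) ?_ (hU.subgroupOf hle)
  · rw [Nat.card_congr (Subgroup.subgroupOfEquivOfLe hle).toEquiv]
    exact TwE6.card_pos hφ hK hq G hO
  · simp only [← even_iff_two_dvd, Nat.not_even_iff_odd, Nat.odd_mul]
    exact ⟨odd_sub hf (by norm_num), odd_add hf (by norm_num), odd_sub hf (by norm_num),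
      odd_sub hf (by norm_num), odd_add hf (by norm_num), odd_sub hf (by norm_num)⟩

theorem twD4 {K : Type*} [Field K] [Fintype K] [CharP K 2] {q : ℕ} (hq : IsPrimePow q)
    (hK : Fintype.card K = q ^ 3) : SylowGood (twistedD4 K q) := by
  obtain ⟨φ, G, hφ, hG, hO⟩ := TwD4.setup hq hK
  have hU := twisted_pos G ckComm_D4 fun o ho => goodGen_of_sq fun x hx => by
    rcases TwD4.Uw_forms φ (hO ▸ ho) hx with ⟨t, -, rfl⟩ | ⟨t, rfl⟩
    · rw [pow_two, D4.ok.xG_add, CharTwo.add_self_eq_zero, D4.ok.xG_zero]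
    · have h1 := D4.ok.commute_xG (F := K) ckComm_D4 (r := 18) (s := 13) (by decide +kernel)
      have h2 := D4.ok.commute_xG (F := K) ckComm_D4 (r := 18) (s := 12) (by decide +kernel)
      have h3 := D4.ok.commute_xG (F := K) ckComm_D4 (r := 13) (s := 12) (by decide +kernel)
      rw [((h2 _ _).mul_left (h3 _ _)).mul_pow, (h1 _ _).mul_pow]
      simp only [pow_two, D4.ok.xG_add, CharTwo.add_self_eq_zero, D4.ok.xG_zero, mul_one]
  have hle := G.pos_fixed_le ckComm_D4
  rw [hG] at hle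
  obtain ⟨f, hf, rfl⟩ := exists_pow (K := K) (by norm_num) hK
  refine sylowGood_of_card (f := f) (a := 12) (c := 1)
    (U := (chevD4.posUnipotent K ⊓ (TwD4.T φ).fixed).subgroupOf (twistedD4 K (2 ^ f)))
    ?_ (by rw [one_mul, S1067.result hq hK]; simp only [mul_assoc]; rfl) ?_ (hU.subgroupOf hle)
  · rw [Nat.card_congr (Subgroup.subgroupOfEquivOfLe hle).toEquiv]
    exact TwD4.card_pos hφ hK hq G hO
  · simp only [← even_iff_two_dvd, Nat.not_even_iff_odd, Nat.odd_mul]
    refine ⟨odd_sub hf (by norm_num), odd_sub hf (by norm_num), ?_⟩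
    exact (((even_two.pow_of_ne_zero (by omega)).pow_of_ne_zero (by norm_num)).add
      ((even_two.pow_of_ne_zero (by omega)).pow_of_ne_zero (by norm_num))).add_one

theorem quad_good {K : Type*} [Field K] [CharP K 2] [Fintype K] (φ : K →+* K) (hφ : ∀ t, φ (φ t) ^ 2 = t)
    (hcard : 2 < Fintype.card K) {U : Subgroup (GL chevF4.Idx K)}
    (hU : ∀ t u : K, TwF4.qw φ (27, 25, 28, 30) t u ∈ U) (t u : K) :
    TwF4.qw φ (27, 25, 28, 30) t u ^ 2 ∈ ⁅U, U⁆ := by
  have hq : ((27, 25, 28, 30) : ℕ × ℕ × ℕ × ℕ) ∈ TwF4.quads := by decide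
  obtain ⟨k, hk⟩ : ∃ k : K, φ k + k ≠ 0 := by
    by_contra hne
    push Not at hne
    have h2 : ∀ x : K, x ^ 2 = x := fun x => by
      have h1 : ∀ y : K, φ y = y := fun y => by
        linear_combination hne y - y * CharTwo.two_eq_zero (R := K)
      simpa [h1] using hφ x
    obtain ⟨x, hx, hx'⟩ : ∃ x : K, x ≠ 0 ∧ x ≠ 1 := by
      classical
      obtain ⟨x, hx⟩ := Finset.exists_mem_notMem_of_card_lt_card (s := ({0, 1} : Finset K)) (t := Finset.univ)
        (by rw [Finset.card_pair zero_ne_one, Finset.card_univ]; exact hcard)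
      exact ⟨x, by simpa [not_or] using hx.2⟩
    exact hx' (mul_left_cancel₀ hx (by rw [mul_one, ← pow_two, h2]))
  have hsurj : Function.Surjective fun c : K => φ c * c := by
    refine Finite.injective_iff_surjective.1 fun c d e => ?_
    change φ c * c = φ d * d at e
    by_cases hd : d = 0
    · subst hd
      simpa using e
    have hc : c ≠ 0 := fun hc => by
      subst hc
      simp [hd] at e
    set x := c / d with hx
    have hx1 : φ x * x = 1 := by
      rw [hx, map_div₀, div_mul_div_comm, e, div_self (mul_ne_zero ((map_ne_zero φ).2 hd) hd)]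
    have hx2 : φ (φ x) = x := by
      rw [eq_inv_of_mul_eq_one_left hx1, map_inv₀, eq_inv_of_mul_eq_one_left hx1, inv_inv]
    have hx3 : x * x = x := by
      have := hφ x
      rwa [hx2, pow_two] at this
    exact (div_eq_one_iff_eq hd).1 (mul_left_cancel₀ (div_ne_zero hc hd) (hx3.trans (mul_one x).symm))
  obtain ⟨c, hc⟩ := hsurj (φ t * t / (φ k + k))
  change φ c * c = φ t * t / (φ k + k) at hc
  rw [eq_div_iff hk] at hc
  set z := TwF4.qw φ (27, 25, 28, 30) 0 (φ t * t)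
  have hsq : TwF4.qw φ (27, 25, 28, 30) t u ^ 2 = z := by
    rw [pow_two, TwF4.qw_mul φ hφ hq, CharTwo.add_self_eq_zero, CharTwo.add_self_eq_zero, zero_add]
  have hcom : z = ⁅TwF4.qw φ (27, 25, 28, 30) (k * c) 0, TwF4.qw φ (27, 25, 28, 30) c 0⁆ := by
    symm
    rw [commutatorElement_def, mul_inv_eq_iff_eq_mul, mul_inv_eq_iff_eq_mul]
    simp only [z, TwF4.qw_mul φ hφ hq]
    congr 1
    · ring
    · simp only [map_mul, map_zero, zero_mul, add_zero, zero_add]
      linear_combination -hc + (φ k * φ c * c - φ t * t) * CharTwo.two_eq_zero (R := K)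
  rw [hsq, hcom]
  exact Subgroup.commutator_mem_commutator (hU _ _) (hU _ _)

theorem twF4 {K : Type*} [Field K] [Fintype K] {m : ℕ} (hm : 1 ≤ m) (hK : Fintype.card K = 2 ^ (2 * m + 1)) :
    SylowGood (twistedF4 K (2 ^ m)) := by
  haveI := Chev.TwF4.charP_two hK
  obtain ⟨φ, G, hφe, hφ, hG, hO⟩ := Chev.TwF4.setup hK
  have hcard : 2 < Fintype.card K := by
    rw [hK]
    calc 2 < 2 ^ 2 := by norm_num
      _ ≤ 2 ^ (2 * m + 1) := Nat.pow_le_pow_right two_pos (by omega)
  have hU := twisted_pos G ckComm_F4 fun o ho => by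
    rw [hO] at ho
    refine goodGen_of_forall fun g hg => ?_
    rcases Chev.TwF4.Uw_forms φ hφ ho hg with ⟨t, rfl⟩ | ⟨t, u, rfl⟩
    · have h := F4.ok.commute_xG (F := K) ckComm_F4 (Chev.TwF4.pair_facts (33, 24) (by decide)).2.2.2.2.2
      rw [Chev.TwF4.pw, show (Chev.TwF4.x 33 (φ t) * Chev.TwF4.x 24 t : GL chevF4.Idx K) ^ 2 = 1 by
        rw [(h (φ t) t).mul_pow, pow_two, pow_two, Chev.TwF4.xa, Chev.TwF4.xa, CharTwo.add_self_eq_zero,
          CharTwo.add_self_eq_zero, Chev.TwF4.x0, Chev.TwF4.x0, mul_one]]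
      exact one_mem _
    · simp only [Chev.TwF4.orbsT, List.mem_cons, List.not_mem_nil, or_false] at ho
      rcases ho with rfl | rfl
      · obtain ⟨t', e⟩ := Chev.TwF4.pair_class φ hφ (g := Chev.TwF4.qw φ (27, 25, 28, 30) t u) ⟨by
          have h := hg.1
          rw [F4.ok.negS_eq Chev.TwF4.ckNegs.1 (by decide +kernel)] at h
          exact F4.ok.genR_mono (fun r hr => by
            simp only [List.mem_cons, List.not_mem_nil, or_false] at hr ⊢; tauto) h, hg.2⟩
        have h := F4.ok.commute_xG (F := K) ckComm_F4 (Chev.TwF4.pair_facts (33, 24) (by decide)).2.2.2.2.2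
        rw [e, Chev.TwF4.pw, show (Chev.TwF4.x 33 (φ t') * Chev.TwF4.x 24 t' : GL chevF4.Idx K) ^ 2 = 1 by
          rw [(h (φ t') t').mul_pow, pow_two, pow_two, Chev.TwF4.xa, Chev.TwF4.xa, CharTwo.add_self_eq_zero,
            CharTwo.add_self_eq_zero, Chev.TwF4.x0, Chev.TwF4.x0, mul_one]]
        exact one_mem _
      · refine quad_good φ hφ hcard (U := G.Uw [1, 2, 1, 2]) (fun a b => ⟨?_, ?_⟩) t u
        · rw [F4.ok.negS_eq Chev.TwF4.ckNegs.2 (by decide +kernel)]
          have hm : ∀ r ∈ [(25 : ℕ), 27, 28, 30], ∀ s : K, Chev.TwF4.x r s ∈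
              F4.ok.genR (F := K) (fun r => r ∈ [(25 : ℕ), 27, 28, 30]) := fun r hr s =>
            F4.ok.xG_mem_genR (S := fun r => r ∈ [(25 : ℕ), 27, 28, 30]) hr s
          exact mul_mem (mul_mem (hm 27 (by simp) _) (hm 25 (by simp) _))
            (mul_mem (hm 28 (by simp) _) (hm 30 (by simp) _))
        · exact Chev.TwF4.qw_fixed φ hφ (by decide) a b
  have hle := G.pos_fixed_le ckComm_F4
  rw [hG] at hle
  have hf : 1 ≤ 2 * m + 1 := by omega
  refine sylowGood_of_card (f := 2 * m + 1) (a := 12) (c := 1)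
    (U := (chevF4.posUnipotent K ⊓ (Chev.TwF4.T φ).fixed).subgroupOf (twistedF4 K (2 ^ m)))
    ?_ (by rw [one_mul, S1068.result hK]; simp only [mul_assoc]; rfl) ?_ (hU.subgroupOf hle)
  · rw [Nat.card_congr (Subgroup.subgroupOfEquivOfLe hle).toEquiv, Chev.TwF4.card_pos φ hφ G hO, hK]
  · simp only [← even_iff_two_dvd, Nat.not_even_iff_odd, Nat.odd_mul]
    refine ⟨?_, odd_add hf (by norm_num), odd_sub hf (by norm_num), odd_add hf (by norm_num)⟩
    simpa using odd_sub (i := 1) hf le_rfl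

/-- Suzuki groups. -/
theorem suzuki {K : Type*} [Field K] [Fintype K] {m : ℕ} (hm : 1 ≤ m) (hK : Fintype.card K = 2 ^ (2 * m + 1)) :
    SylowGood (Cfsg.Lie.Sz K (2 ^ (m + 1))) := by
  obtain ⟨D⟩ := Suzuki.exists_dat hm hK
  refine SylowGood.of_equiv (sylowGood_of_one (Suzuki.QS D hK) ?_) (Suzuki.lieEquiv D hK)
  refine goodGen_of_forall fun g hg => ?_
  obtain ⟨a, b, rfl⟩ := hg
  have hz : (Suzuki.qT D a b) ^ 2 ∈ commutator (Suzuki.Q D) := by
    rw [Suzuki.commutator_Q D hK, Suzuki.mem_center_Q D hK]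
    exact ⟨_, (pow_two _).trans (Suzuki.qT_sq D a b)⟩
  have h := Subgroup.mem_map_of_mem (Suzuki.Q D).subtype hz
  rw [Subgroup.map_subtype_commutator, map_pow] at h
  exact h

end Cfsg.Agent.LieSylow
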