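import Cfsg.Agent.Lib.LieSylow.Core
import Cfsg.Agent.Lib.AutPSp.Basic
import Cfsg.Prelude.Def_Classical

/-!
Sylow 2-subgroups of special linear and symplectic groups in characteristic two.
-/

set_option autoImplicit false
set_option linter.style.haveILetI false
set_option linter.unusedSectionVars false

namespace Cfsg.Agent.LieSylow

open Matrix

theorem add_self_vec {F : Type*} [Field F] [CharP F 2] {ι : Type*} (v : ι → F) : v + v = 0 :=
  funext fun i => CharTwo.add_self_eq_zero (v i)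

/-- A 2-group fixing zero fixes a second vector of an invariant subspace. -/
theorem exists_fixed_ne {G X : Type*} [Group G] [AddCommGroup X] [Finite X] (hX : ∀ x : X, x + x = 0)
    {R : Subgroup G} (hR : IsPGroup 2 R) (act : G → X → X) (W : AddSubgroup X) (hW : ∃ w ∈ W, w ≠ 0)
    (hone : ∀ x, act 1 x = x) (hmul : ∀ g h x, act (g * h) x = act g (act h x)) (hzero : ∀ g, act g 0 = 0)
    (hmem : ∀ g ∈ R, ∀ x ∈ W, act g x ∈ W) : ∃ w ∈ W, w ≠ 0 ∧ ∀ g ∈ R, act g w = w := by
  haveI := Fact.mk Nat.prime_two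
  letI : MulAction R W :=
    { smul := fun g v => ⟨act (g : G) v, hmem _ g.2 _ v.2⟩
      one_smul := fun v => Subtype.ext (hone _)
      mul_smul := fun g h v => Subtype.ext (hmul _ _ _) }
  obtain ⟨w, hw, hw0⟩ := hW
  have hdvd : 2 ∣ Nat.card W := by
    have h : addOrderOf (⟨w, hw⟩ : W) = 2 := addOrderOf_eq_prime (Subtype.ext (by rw [two_nsmul]; exact hX w))
      fun e => hw0 (congrArg Subtype.val e)
    exact h ▸ addOrderOf_dvd_natCard _
  obtain ⟨y, hy, hne⟩ := hR.exists_fixed_point_of_prime_dvd_card_of_fixed_point W hdvd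
    (a := (0 : W)) (fun g => Subtype.ext (hzero _))
  exact ⟨y, y.2, fun e => hne (Subtype.ext e.symm), fun g hg => congrArg Subtype.val (hy ⟨g, hg⟩)⟩

section SympPart

open Cfsg.Agent.AutPSp Cfsg.Agent.FormsLib

variable {m : ℕ} {F : Type*} [Field F] [Finite F] [CharP F 2]

local notation "V" => Fin m ⊕ Fin m → F
local notation "Sp" => Matrix.symplecticGroup (Fin m) F
local notation "Mat" => Matrix (Fin m ⊕ Fin m) (Fin m ⊕ Fin m) F
local notation "B" => spB m F

/-- The pointwise stabiliser of a set of vectors. -/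
def spFix (D : Set V) : Subgroup Sp where
  carrier := {g | ∀ d ∈ D, (g : Mat) *ᵥ d = d}
  one_mem' := fun d _ => by rw [Submonoid.coe_one, Matrix.one_mulVec]
  mul_mem' := fun {a b} ha hb d hd => by rw [Submonoid.coe_mul, ← Matrix.mulVec_mulVec, hb d hd, ha d hd]
  inv_mem' := fun {a} ha d hd => by
    have h := sp_coe_inv_mulVec a d
    rwa [ha d hd] at h

theorem sp_rec : ∀ (k : ℕ) (D : Set V),
    Nat.card {x : V // ∀ d ∈ D, B x d = 0} ≤ k →
    (∀ x, (∀ d ∈ D, B x d = 0) → (∀ y, (∀ d ∈ D, B y d = 0) → B x y = 0) → x = 0) →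
    ∀ R : Subgroup Sp, IsPGroup 2 R → R ≤ spFix D → ∃ S, R ≤ S ∧ S ≤ spFix D ∧ IsPGroup 2 S ∧ GoodGen S := by
  intro k
  induction k with
  | zero =>
    intro D hk
    haveI : Nonempty {x : V // ∀ d ∈ D, B x d = 0} :=
      ⟨⟨0, fun d _ => by rw [map_zero, LinearMap.zero_apply]⟩⟩
    have := Nat.card_pos (α := {x : V // ∀ d ∈ D, B x d = 0})
    omega
  | succ k ih =>
    intro D hk hnd R hR hRD
    let W : AddSubgroup V :=
      { carrier := {x | ∀ d ∈ D, B x d = 0}
        zero_mem' := fun d _ => by rw [map_zero, LinearMap.zero_apply]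
        add_mem' := fun {a b} ha hb d hd => by rw [map_add, LinearMap.add_apply, ha d hd, hb d hd, add_zero]
        neg_mem' := fun {a} ha d hd => by rw [map_neg, LinearMap.neg_apply, ha d hd, neg_zero] }
    have hgW : ∀ g ∈ spFix D, ∀ x ∈ W, (g : Mat) *ᵥ x ∈ W := fun g hg x hx d hd => by
      rw [← hg d hd, B_sp, hx d hd]
    by_cases hW : ∃ w ∈ W, w ≠ 0
    · obtain ⟨e, he, he0, hRe⟩ := exists_fixed_ne (X := V) add_self_vec hR
        (fun g x => ((g : Sp) : Mat) *ᵥ x) W hW (fun x => by rw [Submonoid.coe_one, Matrix.one_mulVec])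
        (fun g h x => by rw [Submonoid.coe_mul, Matrix.mulVec_mulVec]) (fun g => Matrix.mulVec_zero _)
        (fun g hg => hgW g (hRD hg))
      obtain ⟨f, hf, hfe⟩ : ∃ f ∈ W, B f e = 1 := by
        obtain ⟨y, hy, hye⟩ : ∃ y ∈ W, B e y ≠ 0 := by
          by_contra hne
          push Not at hne
          exact he0 (hnd e he hne)
        rw [B_swap, neg_ne_zero] at hye
        refine ⟨(B y e)⁻¹ • y, fun d hd => ?_, ?_⟩
        · rw [map_smul, LinearMap.smul_apply, hy d hd, smul_zero]
        · rw [map_smul, LinearMap.smul_apply, smul_eq_mul, inv_mul_cancel₀ hye]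
      have hef : B e f = 1 := by rw [B_swap, hfe, CharTwo.neg_eq]
      set D' : Set V := D ∪ {e, f} with hD'
      have hcard : Nat.card {x : V // ∀ d ∈ D', B x d = 0} ≤ k := by
        have hlt : Nat.card {x : V // ∀ d ∈ D', B x d = 0} < Nat.card {x : V // ∀ d ∈ D, B x d = 0} := by
          refine Set.Finite.card_lt_card (Set.toFinite {x : V | ∀ d ∈ D, B x d = 0}) ?_
          refine ⟨fun x hx d hd => hx d (Or.inl hd), fun hle => ?_⟩
          have := hle hf e (Or.inr (by simp))
          exact one_ne_zero (hfe.symm.trans this)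
        omega
      have hnd' : ∀ x, (∀ d ∈ D', B x d = 0) → (∀ y, (∀ d ∈ D', B y d = 0) → B x y = 0) → x = 0 := by
        intro x hx hx'
        refine hnd x (fun d hd => hx d (Or.inl hd)) fun y hy => ?_
        have hxe := hx e (Or.inr (by simp))
        have hxf := hx f (Or.inr (by simp))
        have h := hx' (y - B y f • e - B y e • f) fun d hd => by
          rcases hd with hd | hd | hd
          · simp [hy d hd, he d hd, hf d hd]
          · subst hd; simp [B_self, hfe]
          · simp only [Set.mem_singleton_iff] at hd; subst hd; simp [B_self, hef]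
        simpa [hxe, hxf] using h
      let A : Subgroup Sp :=
        { carrier := {g | ∃ (a : V) (_ : a ∈ W) (h : B e a = 0) (t : F), g = qE e a h t}
          one_mem' := ⟨0, zero_mem _, map_zero _, 0, (qE_zero e).symm⟩
          mul_mem' := by
            rintro _ _ ⟨a, ha, h, t, rfl⟩ ⟨b, hb, h', s, rfl⟩
            exact ⟨a + b, add_mem ha hb, _, _, qE_mul h h' t s⟩
          inv_mem' := by
            rintro _ ⟨a, ha, h, t, rfl⟩
            refine ⟨a, ha, h, t, inv_eq_of_mul_eq_one_right ?_⟩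
            rw [← pow_two, qE_pow_char 2] }
      have hA2 : ∀ g ∈ A, g ^ 2 = 1 := by
        rintro _ ⟨a, ha, h, t, rfl⟩
        exact qE_pow_char 2 h t
      let L : Subgroup Sp := spFix (D ∪ {e})
      obtain ⟨S, hS, hSle, hSp, hSg⟩ := step (L := L) (A := A) (K' := spFix D') hR
        (fun g hg d hd => by
          rcases hd with hd | hd
          · exact hRD hg d hd
          · rw [Set.mem_singleton_iff.1 hd]; exact hRe g hg)
        (fun g => ⟨1, by simpa using Subtype.ext (hA2 g g.2)⟩) (goodGen_of_sq hA2)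
        (by
          rintro g hg _ ⟨a, ha, h, t, rfl⟩
          have hge : (g : Mat) *ᵥ e = e := hg e (Or.inr rfl)
          refine ⟨(g : Mat) *ᵥ a, hgW g (fun d hd => hg d (Or.inl hd)) a ha, ?_, t, (qE_conj g h t).trans ?_⟩
          · rw [← hge, B_sp]; exact h
          · apply sp_ext
            intro v
            simp only [qE_apply, hge])
        (fun g hg d hd => hg d (by
          rcases hd with hd | hd
          · exact Or.inl hd
          · exact Or.inr (Or.inl hd)))
        (by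
          intro g hg
          have hge : (g : Mat) *ᵥ e = e := hg e (Or.inr rfl)
          set y := (g : Mat) *ᵥ f with hy
          have hyW : y ∈ W := hgW g (fun d hd => hg d (Or.inl hd)) f hf
          have h : B e (y - f) = 0 := by
            rw [map_sub, hef]
            nth_rewrite 1 [← hge]
            rw [hy, B_sp, hef, sub_self]
          set a := qE e (y - f) h (B f (y - f)) with ha
          have haA : a ∈ A := ⟨y - f, sub_mem hyW hf, h, _, rfl⟩
          have haD : ∀ d ∈ D ∪ {e}, (a : Mat) *ᵥ d = d := by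
            rintro d (hd | hd)
            · have h1 : B d e = 0 := by rw [B_swap, he d hd, neg_zero]
              have h2 : B d (y - f) = 0 := by rw [B_swap, sub_mem hyW hf d hd, neg_zero]
              rw [ha, qE_apply, h1, h2]; simp
            · rw [Set.mem_singleton_iff.1 hd, ha, qE_apply, h, B_self]; simp
          have haf : (a : Mat) *ᵥ f = y := by
            rw [ha, qE_apply, hfe, mul_one, one_smul, add_right_comm _ (y - f), add_assoc (f + _), ← add_assoc]
            rw [show f + B f (y - f) • e + B f (y - f) • e + (y - f) = f + (y - f) + (B f (y - f) • e + B f (y - f) • e) by abel,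
              add_self_vec, add_zero, add_sub_cancel]
          have hai : a⁻¹ = a := inv_eq_of_mul_eq_one_right (by rw [← pow_two]; exact hA2 a haA)
          refine ⟨a, haA, fun d hd => ?_⟩
          rw [Submonoid.coe_mul, ← Matrix.mulVec_mulVec]
          rcases hd with hd | hd | hd
          · rw [hg d (Or.inl hd), haD d (Or.inl hd)]
          · rw [hd, hge, haD e (Or.inr rfl)]
          · rw [Set.mem_singleton_iff.1 hd, ← hy]
            conv_lhs => rw [← haf]
            rw [Matrix.mulVec_mulVec, ← Submonoid.coe_mul, ← pow_two, hA2 a haA, Submonoid.coe_one,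
              Matrix.one_mulVec])
        (fun R' hR' hle => ih D' hcard hnd' R' hR' hle)
      refine ⟨S, hS, hSle.trans (sup_le ?_ ?_), hSp, hSg⟩
      · rintro _ ⟨a, ha, h, t, rfl⟩ d hd
        have h1 : B d e = 0 := by rw [B_swap, he d hd, neg_zero]
        have h2 : B d a = 0 := by rw [B_swap, ha d hd, neg_zero]
        rw [qE_apply, h1, h2]; simp
      · exact fun g hg d hd => hg d (Or.inl hd)
    · push Not at hW
      refine ⟨⊥, fun g hg => Subgroup.mem_bot.2 (sp_ext fun v => ?_), bot_le, IsPGroup.of_bot, goodGen_bot⟩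
      rw [Submonoid.coe_one, Matrix.one_mulVec]
      refine sub_eq_zero.1 (hW _ fun d hd => ?_)
      rw [map_sub, LinearMap.sub_apply, sub_eq_zero]
      conv_lhs => rw [← hRD hg d hd, B_sp]

theorem psp : SylowGood (Cfsg.PSp m F) := by
  refine SylowGood.of_surjective (sylowGood_of_exists fun R hR => ?_)
    (f := AutPSp.proj m F) AutPSp.proj_surjective
  obtain ⟨S, h1, -, h2, h3⟩ := sp_rec (Nat.card {x : V // ∀ d ∈ (∅ : Set V), B x d = 0}) ∅ le_rfl
    (fun x _ h => eq_zero_of_orth fun v => by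
      rw [B_swap, h v (fun d hd => absurd hd (Set.notMem_empty d)), neg_zero]) R hR
    (fun g _ d hd => absurd hd (Set.notMem_empty d))
  exact ⟨S, h1, h2, h3⟩

end SympPart

section SLPart

variable {n : ℕ} {F : Type*} [Field F] [Finite F] [CharP F 2]

local notation "V" => Fin n → F
local notation "SLn" => Matrix.SpecialLinearGroup (Fin n) F
local notation "Mat" => Matrix (Fin n) (Fin n) F

/-- The matrix of an element. -/
def mh : SLn →* Mat where
  toFun g := g.1
  map_one' := rfl
  map_mul' _ _ := rfl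

/-- The stabiliser of a set of vectors and of a set of functionals. -/
def slFix (D : Set V) (Φ : Set (V →ₗ[F] F)) : Subgroup SLn where
  carrier := {g | (∀ d ∈ D, (mh g) *ᵥ d = d) ∧ ∀ φ ∈ Φ, ∀ x, φ ((mh g) *ᵥ x) = φ x}
  one_mem' := ⟨fun d _ => by rw [map_one, Matrix.one_mulVec],
    fun φ _ x => by rw [map_one, Matrix.one_mulVec]⟩
  mul_mem' := fun {a b} ha hb => ⟨fun d hd => by
      rw [map_mul, ← Matrix.mulVec_mulVec, hb.1 d hd, ha.1 d hd],
    fun φ hφ x => by rw [map_mul, ← Matrix.mulVec_mulVec, ha.2 φ hφ, hb.2 φ hφ]⟩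
  inv_mem' := fun {a} ha => by
    have e : ∀ x : V, (mh a) *ᵥ ((mh a⁻¹) *ᵥ x) = x := fun x => by
      rw [Matrix.mulVec_mulVec, ← map_mul, mul_inv_cancel, map_one,
        Matrix.one_mulVec]
    refine ⟨fun d hd => ?_, fun φ hφ x => ?_⟩
    · have h : (mh a⁻¹) *ᵥ ((mh a) *ᵥ d) = d := by
        rw [Matrix.mulVec_mulVec, ← map_mul, inv_mul_cancel, map_one,
          Matrix.one_mulVec]
      rwa [ha.1 d hd] at h
    · conv_rhs => rw [← e x]
      rw [ha.2 φ hφ]

/-- The linear map `x ↦ x + φ x • e`. -/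
noncomputable def tvLin (e : V) (φ : V →ₗ[F] F) : V →ₗ[F] V := LinearMap.id + φ.smulRight e

theorem tvLin_comp {e : V} {φ ψ : V →ₗ[F] F} (h : φ e = 0) :
    tvLin e φ ∘ₗ tvLin e ψ = tvLin e (φ + ψ) := by
  refine LinearMap.ext fun x => ?_
  simp only [tvLin, LinearMap.comp_apply, LinearMap.add_apply, LinearMap.id_apply, LinearMap.smulRight_apply,
    map_add, map_smul, h, smul_eq_mul, mul_zero, add_zero]
  module

theorem tvLin_sq {e : V} {φ : V →ₗ[F] F} (h : φ e = 0) :
    LinearMap.toMatrix' (tvLin e φ) * LinearMap.toMatrix' (tvLin e φ) = 1 := by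
  rw [← LinearMap.toMatrix'_comp, tvLin_comp h, ← LinearMap.toMatrix'_id]
  congr 1
  refine LinearMap.ext fun x => ?_
  simp [tvLin, CharTwo.add_self_eq_zero]

/-- A transvection. -/
noncomputable def tv (e : V) (φ : V →ₗ[F] F) (h : φ e = 0) : SLn :=
  ⟨LinearMap.toMatrix' (tvLin e φ), by
    have h1 := congrArg Matrix.det (tvLin_sq (φ := φ) h)
    rw [Matrix.det_mul, Matrix.det_one] at h1
    exact CharTwo.sq_injective (by show _ ^ 2 = _ ^ 2; rw [pow_two, h1, one_pow])⟩

theorem tv_apply {e : V} {φ : V →ₗ[F] F} (h : φ e = 0) (x : V) : mh (tv e φ h) *ᵥ x = x + φ x • e := by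
  show LinearMap.toMatrix' (tvLin e φ) *ᵥ x = _
  rw [LinearMap.toMatrix'_mulVec]
  rfl

theorem sl_ext {s t : SLn} (h : ∀ v : V, (mh s) *ᵥ v = (mh t) *ᵥ v) : s = t :=
  Subtype.ext (Matrix.ext_iff_mulVec.2 h)

theorem sl_rec : ∀ (k : ℕ) (D : Set V) (Φ : Set (V →ₗ[F] F)),
    Nat.card {x : V // ∀ φ ∈ Φ, φ x = 0} ≤ k →
    (∀ x ∈ Submodule.span F D, (∀ φ ∈ Φ, φ x = 0) → x = 0) →
    ∀ R : Subgroup SLn, IsPGroup 2 R → R ≤ slFix D Φ → ∃ S, R ≤ S ∧ S ≤ slFix D Φ ∧ IsPGroup 2 S ∧ GoodGen S := by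
  intro k
  induction k with
  | zero =>
    intro D Φ hk
    haveI : Nonempty {x : V // ∀ φ ∈ Φ, φ x = 0} := ⟨⟨0, fun φ _ => map_zero φ⟩⟩
    have := Nat.card_pos (α := {x : V // ∀ φ ∈ Φ, φ x = 0})
    omega
  | succ k ih =>
    intro D Φ hk hind R hR hRD
    let W : AddSubgroup V :=
      { carrier := {x | ∀ φ ∈ Φ, φ x = 0}
        zero_mem' := fun φ _ => map_zero φ
        add_mem' := fun {a b} ha hb φ hφ => by rw [map_add, ha φ hφ, hb φ hφ, add_zero]
        neg_mem' := fun {a} ha φ hφ => by rw [map_neg, ha φ hφ, neg_zero] }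
    by_cases hW : ∃ w ∈ W, w ≠ 0
    · obtain ⟨e, he, he0, hRe⟩ := exists_fixed_ne (X := V) add_self_vec hR
        (fun g x => (mh (g : SLn)) *ᵥ x) W hW (fun x => by rw [map_one, Matrix.one_mulVec])
        (fun g h x => by rw [map_mul, Matrix.mulVec_mulVec]) (fun g => Matrix.mulVec_zero _)
        (fun g hg x hx φ hφ => by rw [(hRD hg).2 φ hφ]; exact hx φ hφ)
      have heD : e ∉ Submodule.span F D := fun h => he0 (hind e h he)
      obtain ⟨ψ, hψe, hψD⟩ : ∃ ψ : V →ₗ[F] F, ψ e = 1 ∧ ∀ d ∈ Submodule.span F D, ψ d = 0 := by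
        obtain ⟨ψ, h1, h2⟩ := Submodule.exists_le_ker_of_notMem heD
        refine ⟨(ψ e)⁻¹ • ψ, by rw [LinearMap.smul_apply, smul_eq_mul, inv_mul_cancel₀ h1], fun d hd => ?_⟩
        rw [LinearMap.smul_apply, LinearMap.mem_ker.1 (h2 hd), smul_zero]
      have hcard : Nat.card {x : V // ∀ φ ∈ Φ ∪ {ψ}, φ x = 0} ≤ k := by
        have hlt : Nat.card {x : V // ∀ φ ∈ Φ ∪ {ψ}, φ x = 0} < Nat.card {x : V // ∀ φ ∈ Φ, φ x = 0} := by
          refine Set.Finite.card_lt_card (Set.toFinite {x : V | ∀ φ ∈ Φ, φ x = 0}) ?_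
          exact ⟨fun x hx φ hφ => hx φ (Or.inl hφ), fun hle => one_ne_zero (hψe.symm.trans (hle he ψ (Or.inr rfl)))⟩
        omega
      have hind' : ∀ x ∈ Submodule.span F (D ∪ {e}), (∀ φ ∈ Φ ∪ {ψ}, φ x = 0) → x = 0 := by
        intro x hx hxφ
        rw [Submodule.span_union, Submodule.mem_sup] at hx
        obtain ⟨u, hu, z, hz, rfl⟩ := hx
        obtain ⟨c, rfl⟩ := Submodule.mem_span_singleton.1 hz
        have hu0 : u = 0 := hind u hu fun φ hφ => by
          have := hxφ φ (Or.inl hφ)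
          rwa [map_add, map_smul, he φ hφ, smul_zero, add_zero] at this
        have hc := hxφ ψ (Or.inr rfl)
        rw [hu0, zero_add, map_smul, hψe, smul_eq_mul, mul_one] at hc
        rw [hu0, hc, zero_smul, add_zero]
      let A : Subgroup SLn :=
        { carrier := {g | ∃ (φ : V →ₗ[F] F) (h : φ e = 0), (∀ d ∈ D, φ d = 0) ∧ g = tv e φ h}
          one_mem' := ⟨0, rfl, fun d _ => rfl, sl_ext fun v => by
            rw [tv_apply, map_one, Matrix.one_mulVec]; simp⟩
          mul_mem' := by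
            rintro _ _ ⟨φ, h, hD, rfl⟩ ⟨ψ', h', hD', rfl⟩
            refine ⟨φ + ψ', by simp [h, h'], fun d hd => by simp [hD d hd, hD' d hd], sl_ext fun v => ?_⟩
            rw [map_mul, ← Matrix.mulVec_mulVec, tv_apply, tv_apply, tv_apply,
              LinearMap.add_apply, map_add, map_smul, h, smul_zero, add_zero]
            module
          inv_mem' := by
            rintro _ ⟨φ, h, hD, rfl⟩
            exact ⟨φ, h, hD, inv_eq_of_mul_eq_one_right (Subtype.ext (tvLin_sq h))⟩ }
      have hA2 : ∀ g ∈ A, g ^ 2 = 1 := by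
        rintro _ ⟨φ, h, hD, rfl⟩
        rw [pow_two]
        exact Subtype.ext (tvLin_sq h)
      have happ : ∀ (g : SLn) (v : V), (mh g) *ᵥ ((mh g⁻¹) *ᵥ v) = v := fun g v => by
        rw [Matrix.mulVec_mulVec, ← map_mul, mul_inv_cancel, map_one,
          Matrix.one_mulVec]
      have happ' : ∀ (g : SLn) (v : V), (mh g⁻¹) *ᵥ ((mh g) *ᵥ v) = v := fun g v => by
        rw [Matrix.mulVec_mulVec, ← map_mul, inv_mul_cancel, map_one,
          Matrix.one_mulVec]
      obtain ⟨S, hS, hSle, hSp, hSg⟩ := step (L := slFix (D ∪ {e}) Φ) (A := A)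
        (K' := slFix (D ∪ {e}) (Φ ∪ {ψ})) hR
        (fun g hg => ⟨fun d hd => by
          rcases hd with hd | hd
          · exact (hRD hg).1 d hd
          · rw [Set.mem_singleton_iff.1 hd]; exact hRe g hg, (hRD hg).2⟩)
        (fun g => ⟨1, by simpa using Subtype.ext (hA2 g g.2)⟩) (goodGen_of_sq hA2)
        (by
          rintro g hg _ ⟨φ, h, hD, rfl⟩
          have hge : (mh g) *ᵥ e = e := hg.1 e (Or.inr rfl)
          have hie := (inv_mem hg : g⁻¹ ∈ slFix (D ∪ {e}) Φ).1
          refine ⟨φ ∘ₗ Matrix.toLin' (mh g⁻¹), ?_, fun d hd => ?_, sl_ext fun v => ?_⟩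
          · rw [LinearMap.comp_apply, Matrix.toLin'_apply, hie e (Or.inr rfl), h]
          · rw [LinearMap.comp_apply, Matrix.toLin'_apply, hie d (Or.inl hd), hD d hd]
          · rw [tv_apply, map_mul, map_mul, ← Matrix.mulVec_mulVec,
              ← Matrix.mulVec_mulVec, tv_apply, Matrix.mulVec_add, Matrix.mulVec_smul, hge, happ,
              LinearMap.comp_apply, Matrix.toLin'_apply])
        (fun g hg => ⟨hg.1, fun φ hφ => hg.2 φ (Or.inl hφ)⟩)
        (by
          intro g hg
          have hie := (inv_mem hg : g⁻¹ ∈ slFix (D ∪ {e}) Φ).1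
          set θ : V →ₗ[F] F := ψ ∘ₗ Matrix.toLin' (mh g⁻¹) - ψ with hθ
          have hθd : ∀ d ∈ D ∪ {e}, θ d = 0 := fun d hd => by
            rw [hθ, LinearMap.sub_apply, LinearMap.comp_apply, Matrix.toLin'_apply, hie d hd, sub_self]
          have hθe := hθd e (Or.inr rfl)
          refine ⟨tv e θ hθe, ⟨θ, hθe, fun d hd => hθd d (Or.inl hd), rfl⟩, fun d hd => ?_, fun φ hφ x => ?_⟩
          · rw [map_mul, ← Matrix.mulVec_mulVec, hg.1 d hd, tv_apply, hθd d hd, zero_smul, add_zero]
          · rw [map_mul, ← Matrix.mulVec_mulVec, tv_apply, map_add, map_smul]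
            rcases hφ with hφ | hφ
            · rw [he φ hφ, smul_zero, add_zero, hg.2 φ hφ]
            · rw [Set.mem_singleton_iff.1 hφ, hψe, hθ, LinearMap.sub_apply, LinearMap.comp_apply,
                Matrix.toLin'_apply, happ', smul_eq_mul, mul_one, add_sub_cancel])
        (fun R' hR' hle => ih (D ∪ {e}) (Φ ∪ {ψ}) hcard hind' R' hR' hle)
      refine ⟨S, hS, hSle.trans (sup_le ?_ ?_), hSp, hSg⟩
      · rintro _ ⟨φ, h, hD, rfl⟩
        exact ⟨fun d hd => by rw [tv_apply, hD d hd, zero_smul, add_zero],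
          fun φ' hφ' x => by rw [tv_apply, map_add, map_smul, he φ' hφ', smul_zero, add_zero]⟩
      · exact fun g hg => ⟨fun d hd => hg.1 d (Or.inl hd), fun φ hφ => hg.2 φ (Or.inl hφ)⟩
    · push Not at hW
      refine ⟨⊥, fun g hg => Subgroup.mem_bot.2 (sl_ext fun v => ?_), bot_le, IsPGroup.of_bot, goodGen_bot⟩
      rw [map_one, Matrix.one_mulVec]
      refine sub_eq_zero.1 (hW _ fun φ hφ => ?_)
      rw [map_sub, (hRD hg).2 φ hφ, sub_self]

theorem psl : SylowGood (Matrix.ProjectiveSpecialLinearGroup (Fin n) F) := by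
  refine SylowGood.of_surjective (sylowGood_of_exists fun R hR => ?_)
    (f := QuotientGroup.mk' _) (QuotientGroup.mk'_surjective _)
  obtain ⟨S, h1, -, h2, h3⟩ := sl_rec (Nat.card {x : V // ∀ φ ∈ (∅ : Set (V →ₗ[F] F)), φ x = 0}) ∅ ∅ le_rfl
    (fun x hx _ => by simpa using hx) R hR
    (fun g _ => ⟨fun d hd => absurd hd (Set.notMem_empty d), fun φ hφ => absurd hφ (Set.notMem_empty φ)⟩)
  exact ⟨S, h1, h2, h3⟩

end SLPart

end Cfsg.Agent.LieSylow
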