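import Cfsg.Agent.Lib.LieSylow.Linear
import Cfsg.Agent.Lib.AutPOmega.DkClasses
import Cfsg.Agent.Lib.AutPOmega.Centre

/-!
Sylow 2-subgroups of orthogonal groups in characteristic two.
-/

set_option autoImplicit false
set_option linter.style.haveILetI false
set_option linter.unusedSectionVars false

namespace Cfsg.Agent.LieSylow

open scoped Matrix
open Cfsg.Agent Cfsg.Agent.TransvMax Cfsg.Agent.QMax Cfsg.Agent.AutPOmega
open Cfsg.Agent.OrthSimple (Om sg)

variable {ι : Type} [Fintype ι] [DecidableEq ι] {F : Type*} [Field F] [Fintype F] [CharP F 2]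
  {Q : QuadraticForm F (ι → F)} (S : QSetting Q)

local notation "V" => ι → F
local notation "B" => pB Q
local notation "OmQ" => Om (Q := Q)

/-- The pointwise stabiliser of a set of vectors. -/
def omFix (D : Set V) : Subgroup OmQ where
  carrier := {g | ∀ d ∈ D, g.1 d = d}
  one_mem' := fun _ _ => rfl
  mul_mem' := fun {a b} ha hb d hd => by
    show a.1 (b.1 d) = d
    rw [hb d hd, ha d hd]
  inv_mem' := fun {a} ha d hd => by
    show a.1.symm d = d
    rw [LinearEquiv.symm_apply_eq, ha d hd]

include S

/-- Nothing in `Ω` acts as a reflection. -/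
theorem not_refl (g : OmQ) {v : V} (hv : Q v ≠ 0) (h : ∀ x, g.1 x = x - ((Q v)⁻¹ * B x v) • v) : False := by
  obtain ⟨e, he⟩ := exists_omEquiv (Q := Q)
  obtain ⟨s, rfl⟩ := e.surjective g
  have hs : ((s : Cfsg.isometryGroup F ⇑Q).1 : Matrix ι ι F) = Cfsg.reflectionMatrix ⇑Q v :=
    Matrix.ext_iff_mulVec.2 fun x => by
      rw [← he, h, FormsLib.reflectionMatrix_mulVec, FormsLib.reflHom_apply,
        QuadraticMap.polarBilin_apply_apply]
  have h1 := dk_omega_one S s
  rw [OrthRows.eq_rf hv hs, OrthRows.dk_rf] at h1
  exact absurd h1 (by decide)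

theorem om_rec : ∀ (k : ℕ) (D : Set V),
    Nat.card {x : V // ∀ d ∈ D, B x d = 0} ≤ k →
    (∀ x, (∀ d ∈ D, B x d = 0) → (∀ y, (∀ d ∈ D, B y d = 0) → B x y = 0) → x = 0) →
    ∀ R : Subgroup OmQ, IsPGroup 2 R → R ≤ omFix D → ∃ T, R ≤ T ∧ T ≤ omFix D ∧ IsPGroup 2 T ∧ GoodGen T := by
  haveI := Fact.mk Nat.prime_two
  have htwo := CharTwo.two_eq_zero (R := F)
  have hBB : ∀ x : V, B x x = 0 := fun x => by rw [S.pB_self, htwo, zero_mul]
  intro k
  induction k with
  | zero =>
    intro D hk
    haveI : Nonempty {x : V // ∀ d ∈ D, B x d = 0} :=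
      ⟨⟨0, fun d _ => by rw [map_zero, LinearMap.zero_apply]⟩⟩
    have := Nat.card_pos (α := {x : V // ∀ d ∈ D, B x d = 0})
    omega
  | succ k ih =>
    intro D hk hnd R hR hRD
    let W : Submodule F V :=
      { carrier := {x | ∀ d ∈ D, B x d = 0}
        zero_mem' := fun d _ => by rw [map_zero, LinearMap.zero_apply]
        add_mem' := fun {a b} ha hb d hd => by rw [map_add, LinearMap.add_apply, ha d hd, hb d hd, add_zero]
        smul_mem' := fun c x hx d hd => by rw [map_smul, LinearMap.smul_apply, hx d hd, smul_zero] }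
    have hBg : ∀ (g : OmQ) (x y : V), B (g.1 x) (g.1 y) = B x y := fun g x y => pB_oGroup S g x y
    have hQg : ∀ (g : OmQ) (x : V), Q (g.1 x) = Q x := fun g x => OrthSimple.mem_oGroup_of_mem_Om g.2 x
    have hgW : ∀ g ∈ omFix D, ∀ x ∈ W, g.1 x ∈ W := fun g hg x hx d hd => by
      rw [← hg d hd, hBg, hx d hd]
    have hgsub : ∀ g ∈ omFix D, ∀ x : V, g.1 x - x ∈ W := fun g hg x d hd => by
      rw [map_sub, LinearMap.sub_apply, sub_eq_zero]
      conv_lhs => rw [← hg d hd, hBg]
    have htriv : (∀ g ∈ R, g = 1) → ∃ T, R ≤ T ∧ T ≤ omFix D ∧ IsPGroup 2 T ∧ GoodGen T := fun h =>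
      ⟨⊥, fun g hg => Subgroup.mem_bot.2 (h g hg), bot_le, IsPGroup.of_bot, goodGen_bot⟩
    by_cases hW : ∃ w ∈ W.toAddSubgroup, w ≠ 0
    · obtain ⟨v, hv, hv0, hRv⟩ := exists_fixed_ne (X := V) add_self_vec hR
        (fun g x => g.1 x) W.toAddSubgroup hW (fun _ => rfl) (fun _ _ _ => rfl) (fun g => map_zero g.1)
        (fun g hg => hgW g (hRD hg))
      by_cases hiso : ∃ e ∈ W, e ≠ 0 ∧ Q e = 0 ∧ ∀ g ∈ R, g.1 e = e
      · obtain ⟨e, he, he0, hQe, hRe⟩ := hiso
        obtain ⟨f, hf, hfe, hQf⟩ : ∃ f ∈ W, B f e = 1 ∧ Q f = 0 := by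
          obtain ⟨y, hy, hye⟩ : ∃ y ∈ W, B e y ≠ 0 := by
            by_contra hne
            push Not at hne
            exact he0 (hnd e he hne)
          rw [S.pB_comm] at hye
          obtain ⟨z, hz, hze⟩ : ∃ z ∈ W, B z e = 1 :=
            ⟨(B y e)⁻¹ • y, W.smul_mem _ hy, by rw [map_smul, LinearMap.smul_apply, smul_eq_mul, inv_mul_cancel₀ hye]⟩
          refine ⟨z + Q z • e, W.add_mem hz (W.smul_mem _ he), ?_, ?_⟩
          · simp [hze, hBB]
          · rw [S.quad_add, S.quad_smul, hQe, map_smul, hze, smul_eq_mul]
            linear_combination Q z * htwo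
        have hef : B e f = 1 := by rw [S.pB_comm, hfe]
        set D' : Set V := D ∪ {e, f} with hD'
        have hcard : Nat.card {x : V // ∀ d ∈ D', B x d = 0} ≤ k := by
          have hlt : Nat.card {x : V // ∀ d ∈ D', B x d = 0} < Nat.card {x : V // ∀ d ∈ D, B x d = 0} := by
            refine Set.Finite.card_lt_card (Set.toFinite {x : V | ∀ d ∈ D, B x d = 0}) ?_
            exact ⟨fun x hx d hd => hx d (Or.inl hd),
              fun hle => one_ne_zero (hfe.symm.trans (hle hf e (Or.inr (by simp))))⟩
          omega
        have hnd' : ∀ x, (∀ d ∈ D', B x d = 0) → (∀ y, (∀ d ∈ D', B y d = 0) → B x y = 0) → x = 0 := by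
          intro x hx hx'
          refine hnd x (fun d hd => hx d (Or.inl hd)) fun y hy => ?_
          have hxe := hx e (Or.inr (by simp))
          have hxf := hx f (Or.inr (by simp))
          have h := hx' (y - B y f • e - B y e • f) fun d hd => by
            rcases hd with hd | hd | hd
            · simp [hy d hd, he d hd, hf d hd]
            · subst hd; simp [hBB, hfe]
            · simp only [Set.mem_singleton_iff] at hd; subst hd; simp [hBB, hef]
          rw [map_sub, map_sub, map_smul, map_smul, hxe, hxf] at h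
          simpa using h
        let A : Subgroup OmQ :=
          { carrier := {g | ∃ (w : V) (_ : w ∈ W) (hw : B w e = 0), g = sg S e w hQe hw}
            one_mem' := ⟨0, W.zero_mem, _, (sg_zero S hQe).symm⟩
            mul_mem' := by
              rintro _ _ ⟨w, hwW, hw, rfl⟩ ⟨w', hwW', hw', rfl⟩
              exact ⟨w + w', W.add_mem hwW hwW', by rw [map_add, LinearMap.add_apply, hw, hw', add_zero],
                Subtype.ext (S.siegel_mul hQe hw hw')⟩
            inv_mem' := by
              rintro _ ⟨w, hwW, hw, rfl⟩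
              exact ⟨-w, W.neg_mem hwW, by rw [map_neg, LinearMap.neg_apply, hw, neg_zero],
                Subtype.ext (S.siegel_inv hQe hw)⟩ }
        have hA2 : ∀ g ∈ A, g ^ 2 = 1 := by
          rintro _ ⟨w, hwW, hw, rfl⟩
          exact sg_pow_char S 2 hQe hw
        obtain ⟨T, hT, hTle, hTp, hTg⟩ := step (L := omFix (D ∪ {e})) (A := A) (K' := omFix D') hR
          (fun g hg d hd => by
            rcases hd with hd | hd
            · exact hRD hg d hd
            · rw [Set.mem_singleton_iff.1 hd]; exact hRe g hg)
          (fun g => ⟨1, by simpa using Subtype.ext (hA2 g g.2)⟩) (goodGen_of_sq hA2)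
          (by
            rintro g hg _ ⟨w, hwW, hw, rfl⟩
            have hge : g.1 e = e := hg e (Or.inr rfl)
            exact ⟨g.1 w, hgW g (fun d hd => hg d (Or.inl hd)) w hwW, by rw [← hge, hBg, hw],
              (sg_conj S g hQe hw).trans (sg_congr S hge rfl)⟩)
          (fun g hg d hd => hg d (by
            rcases hd with hd | hd
            · exact Or.inl hd
            · exact Or.inr (Or.inl hd)))
          (by
            intro g hg
            have hge : g.1 e = e := hg e (Or.inr rfl)
            have hyW : g.1 f ∈ W := hgW g (fun d hd => hg d (Or.inl hd)) f hf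
            have hw : B (g.1 f - f) e = 0 := by
              rw [map_sub, LinearMap.sub_apply, hfe]
              conv_lhs => rw [← hge, hBg, hfe]
              exact sub_self _
            set a := sg S e (g.1 f - f) hQe hw with ha
            have haA : a ∈ A := ⟨g.1 f - f, W.sub_mem hyW hf, hw, rfl⟩
            have haD : ∀ d ∈ D ∪ {e}, a.1 d = d := by
              rintro d (hd | hd)
              · show S.siegel e (g.1 f - f) hQe hw d = d
                rw [S.siegel_apply, siegelHom_apply, show B d e = 0 by rw [S.pB_comm, he d hd],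
                  show B d (g.1 f - f) = 0 by rw [S.pB_comm, W.sub_mem hyW hf d hd]]
                simp
              · rw [Set.mem_singleton_iff.1 hd]
                show S.siegel e (g.1 f - f) hQe hw e = e
                rw [S.siegel_apply, siegelHom_apply, hBB, show B e (g.1 f - f) = 0 by rw [S.pB_comm, hw]]
                simp
            have haf : a.1 f = g.1 f := S.siegel_map hQe hfe (hQg g f).symm hw
            refine ⟨a⁻¹, inv_mem haA, fun d hd => ?_⟩
            show a.1.symm (g.1 d) = d
            rw [LinearEquiv.symm_apply_eq]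
            rcases hd with hd | hd | hd
            · rw [hg d (Or.inl hd), haD d (Or.inl hd)]
            · rw [hd, hge, haD e (Or.inr rfl)]
            · rw [Set.mem_singleton_iff.1 hd, haf])
          (fun R' hR' hle => ih D' hcard hnd' R' hR' hle)
        refine ⟨T, hT, hTle.trans (sup_le ?_ ?_), hTp, hTg⟩
        · rintro _ ⟨w, hwW, hw, rfl⟩ d hd
          show S.siegel e w hQe hw d = d
          rw [S.siegel_apply, siegelHom_apply, show B d e = 0 by rw [S.pB_comm, he d hd],
            show B d w = 0 by rw [S.pB_comm, hwW d hd]]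
          simp
        · exact fun g hg d hd => hg d (Or.inl hd)
      · push Not at hiso
        have hQv : Q v ≠ 0 := fun h => by
          obtain ⟨g, hg, hne⟩ := hiso v hv hv0 h
          exact hne (hRv g hg)
        refine htriv fun g hg => ?_
        let W' : Submodule F V := W ⊓ LinearMap.ker ((pB Q).flip v)
        have hmemW' : ∀ {x : V}, x ∈ W' ↔ x ∈ W ∧ B x v = 0 := by
          intro x; simp [W']
        by_cases hW' : ∀ x ∈ W', x ∈ Submodule.span F {v}
        · -- a reflection or the identity
          have hc : ∀ x : V, ∃ c : F, g.1 x - x = c • v ∧ (c = 0 ∨ c = (Q v)⁻¹ * B x v) := by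
            intro x
            obtain ⟨c, hc⟩ := Submodule.mem_span_singleton.1 (hW' _ (hmemW'.2 ⟨hgsub g (hRD hg) x, by
              rw [map_sub, LinearMap.sub_apply, sub_eq_zero]
              conv_lhs => rw [← hRv g hg, hBg]⟩))
            refine ⟨c, hc.symm, ?_⟩
            have h1 := hQg g x
            rw [show g.1 x = x + c • v by rw [hc]; abel, S.quad_add, S.quad_smul, map_smul, smul_eq_mul] at h1
            rcases eq_or_ne c 0 with h0 | h0
            · exact Or.inl h0
            · refine Or.inr (mul_left_cancel₀ (mul_ne_zero h0 hQv) ?_)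
              rw [mul_assoc c (Q v) ((Q v)⁻¹ * B x v), mul_inv_cancel_left₀ hQv]
              linear_combination h1 - (c * B x v) * htwo
          choose c hcv hcc using hc
          have hadd : ∀ x y, c (x + y) = c x + c y := fun x y => by
            refine smul_left_injective F hv0 ?_
            show c (x + y) • v = (c x + c y) • v
            rw [add_smul, ← hcv, ← hcv, ← hcv, map_add]
            abel
          by_contra hne
          obtain ⟨x₀, hx₀⟩ : ∃ x, c x ≠ 0 := by
            by_contra hall
            push Not at hall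
            refine hne (om_ext S fun x => ?_)
            show g.1 x = x
            rw [← sub_eq_zero, hcv, hall, zero_smul]
          refine not_refl S g hQv fun x => ?_
          have hx : c x = (Q v)⁻¹ * B x v := by
            rcases hcc x with h | h
            · have h2 : c (x + x₀) = c x₀ := by rw [hadd, h, zero_add]
              have h3 := (hcc x₀).resolve_left hx₀
              have h4 := (hcc (x + x₀)).resolve_left (by rw [h2]; exact hx₀)
              rw [h2, h3, map_add, LinearMap.add_apply] at h4
              rw [h]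
              linear_combination h4
            · exact h
          rw [← hx, sub_eq_add_neg, ← neg_smul, CharTwo.neg_eq, ← hcv]
          abel
        · exfalso
          push Not at hW'
          obtain ⟨y, hy, hyv⟩ := hW'
          have hvW' : v ∈ W' := hmemW'.2 ⟨hv, hBB v⟩
          let X := {x : W' // Q (x : V) = 0}
          letI : MulAction R X :=
            { smul := fun g x => ⟨⟨g.1.1 (x.1 : V), hmemW'.2 ⟨hgW g.1 (hRD g.2) _ (hmemW'.1 x.1.2).1, by
                  rw [← hRv g.1 g.2, hBg, (hmemW'.1 x.1.2).2]⟩⟩, by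
                  show Q (g.1.1 (x.1 : V)) = 0
                  rw [hQg, x.2]⟩
              one_smul := fun _ => rfl
              mul_smul := fun _ _ _ => rfl }
          have hsq : ∀ z : V, ∃ t : F, t * t * Q v = Q z := fun z => by
            obtain ⟨t, ht⟩ := S.exists_sq htwo (Q z / Q v)
            exact ⟨t, by rw [ht, div_mul_cancel₀ _ hQv]⟩
          have hbij : Function.Bijective (fun p : X × F => (p.1.1 + p.2 • ⟨v, hvW'⟩ : W')) := by
            constructor
            · rintro ⟨⟨⟨x, hx⟩, hx0⟩, s⟩ ⟨⟨⟨x', hx'⟩, hx0'⟩, s'⟩ h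
              have h' : x + s • v = x' + s' • v := congrArg Subtype.val h
              have h1 := congrArg Q h'
              simp only [S.quad_add, S.quad_smul, map_smul, smul_eq_mul, (hmemW'.1 hx).2, (hmemW'.1 hx').2,
                show Q x = 0 from hx0, show Q x' = 0 from hx0', mul_zero, add_zero, zero_add] at h1
              have hss : s = s' := CharTwo.sq_injective (by
                show s ^ 2 = s' ^ 2
                rw [pow_two, pow_two]; exact mul_right_cancel₀ hQv h1)
              subst hss
              have := add_right_cancel h'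
              subst this
              rfl
            · rintro ⟨z, hz⟩
              obtain ⟨t, ht⟩ := hsq z
              refine ⟨(⟨⟨z + t • v, W'.add_mem hz (W'.smul_mem t hvW')⟩, ?_⟩, t), Subtype.ext ?_⟩
              · show Q (z + t • v) = 0
                rw [S.quad_add, S.quad_smul, map_smul, (hmemW'.1 hz).2, smul_zero, add_zero, ht]
                exact CharTwo.add_self_eq_zero _
              · show z + t • v + t • v = z
                rw [add_assoc, add_self_vec, add_zero]
          have hd : 2 ≤ Module.finrank F W' := by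
            by_contra hlt
            have hv' : (⟨v, hvW'⟩ : W') ≠ 0 := fun h => hv0 (congrArg Subtype.val h)
            have hpos : 0 < Module.finrank F W' := Module.finrank_pos_iff_exists_ne_zero.2 ⟨_, hv'⟩
            obtain ⟨c, hc⟩ := exists_smul_eq_of_finrank_eq_one (show Module.finrank F W' = 1 by omega) hv' ⟨y, hy⟩
            exact hyv (Submodule.mem_span_singleton.2 ⟨c, congrArg Subtype.val hc⟩)
          have hXc : 2 ∣ Nat.card X := by
            have h1 := Nat.card_congr (Equiv.ofBijective _ hbij)
            rw [Nat.card_prod, show Nat.card W' = Nat.card F ^ Module.finrank F W' from Module.natCard_eq_pow_finrank] at h1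
            obtain ⟨d, hd'⟩ : ∃ d, Module.finrank F W' = d + 1 + 1 := ⟨Module.finrank F W' - 2, by omega⟩
            rw [hd', pow_succ] at h1
            rw [Nat.eq_of_mul_eq_mul_right Nat.card_pos h1, pow_succ]
            refine dvd_mul_of_dvd_right ?_ _
            rw [Nat.card_eq_fintype_card]
            exact Nat.dvd_of_mod_eq_zero (FiniteField.even_card_iff_char_two.1 (ringChar.eq F 2))
          obtain ⟨x, hx, hne⟩ := hR.exists_fixed_point_of_prime_dvd_card_of_fixed_point X hXc
            (a := ⟨0, map_zero Q⟩) (fun g => Subtype.ext (Subtype.ext (map_zero g.1.1)))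
          have hx0 : (x.1 : V) ≠ 0 := fun h => hne (Subtype.ext (Subtype.ext h.symm))
          obtain ⟨g, hg, hne'⟩ := hiso x.1 (hmemW'.1 x.1.2).1 hx0 x.2
          exact hne' (congrArg (fun z : X => ((z.1 : V))) (hx ⟨g, hg⟩))
    · push Not at hW
      refine htriv fun g hg => om_ext S fun x => sub_eq_zero.1 (hW _ (hgsub g (hRD hg) x))

theorem omega : SylowGood (Cfsg.POmega F ⇑Q) := by
  obtain ⟨e, -⟩ := exists_omEquiv (Q := Q)
  refine SylowGood.of_surjective ?_ (f := QuotientGroup.mk' _) (QuotientGroup.mk'_surjective _)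
  refine SylowGood.of_equiv (sylowGood_of_exists fun R hR => ?_) e.symm
  obtain ⟨T, h1, -, h2, h3⟩ := om_rec S (Nat.card {x : V // ∀ d ∈ (∅ : Set V), B x d = 0}) ∅ le_rfl
    (fun x _ h => S.eq_of_forall fun y => by
      rw [map_zero, S.pB_comm, h y fun d hd => absurd hd (Set.notMem_empty d)]) R hR
    (fun g _ d hd => absurd hd (Set.notMem_empty d))
  exact ⟨T, h1, h2, h3⟩

omit S [Fintype ι] [DecidableEq ι]

theorem pOmegaPlus {m : ℕ} (hm : 4 ≤ m) : SylowGood (Cfsg.POmega F (Cfsg.quadFormPlus m F)) := by
  have S : QMax.QSetting (OrthOrder.qPlus m F) :=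
    ⟨OrthForms.qPlus_nondeg m, by simp [Fintype.card_sum]; omega⟩
  rw [← (funext (OrthOrder.qPlus_apply m) : ⇑(OrthOrder.qPlus m F) = Cfsg.quadFormPlus m F)]
  exact omega S

theorem pOmegaMinus {m : ℕ} (hm : 4 ≤ m) {a b : F}
    (hab : ∀ z₁ z₂ : F, z₁ ^ 2 + a * z₁ * z₂ + b * z₂ ^ 2 = 0 → z₁ = 0 ∧ z₂ = 0) :
    SylowGood (Cfsg.POmega F (Cfsg.quadFormMinus (m - 1) F a b)) := by
  obtain ⟨Q, hQ, hn⟩ := OrthForms.exists_qMinus (m - 1) a b hab
  have S : QMax.QSetting Q := ⟨hn, by simp [Fintype.card_sum]; omega⟩
  rw [← hQ]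
  exact omega S

end Cfsg.Agent.LieSylow
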