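import Cfsg.Agent.Lib.LieSylow.Linear
import Cfsg.Agent.Lib.AutPSU.Centre

/-!
Sylow 2-subgroups of special unitary groups in characteristic two.
-/

set_option autoImplicit false
set_option linter.style.haveILetI false
set_option linter.unusedSectionVars false

namespace Cfsg.Agent.LieSylow

open Cfsg.Agent.AutPSU
open scoped commutatorElement

variable {F : Type*} [Field F] {q : ℕ} [hQ : QField F q] [CharP F 2] {n : ℕ}

local notation "σ" => qb (F := F) q
local notation "V" => Fin n → F
set_option quotPrecheck false in
local notation "SUn" => ↥(Cfsg.SU n F q)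
local notation "H" => Cfsg.hermForm n F q

/-- The pointwise stabiliser of a set of vectors. -/
def suFix (D : Set V) : Subgroup SUn where
  carrier := {g | ∀ d ∈ D, app g d = d}
  one_mem' := fun d _ => app_one d
  mul_mem' := fun {a b} ha hb d hd => by rw [app_mul, hb d hd, ha d hd]
  inv_mem' := fun {a} ha d hd => by
    have h := app_inv a d
    rwa [ha d hd] at h

theorem su_rec : ∀ (k : ℕ) (D : Set V),
    Nat.card {x : V // ∀ d ∈ D, H x d = 0} ≤ k →
    (∀ x, (∀ d ∈ D, H x d = 0) → (∀ y, (∀ d ∈ D, H y d = 0) → H x y = 0) → x = 0) →
    ∀ R : Subgroup SUn, IsPGroup 2 R → R ≤ suFix D → ∃ S, R ≤ S ∧ S ≤ suFix D ∧ IsPGroup 2 S ∧ GoodGen S := by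
  haveI := finite_field (F := F) (q := q)
  intro k
  induction k with
  | zero =>
    intro D hk
    haveI : Nonempty {x : V // ∀ d ∈ D, H x d = 0} := ⟨⟨0, fun d _ => H_zero_left d⟩⟩
    have := Nat.card_pos (α := {x : V // ∀ d ∈ D, H x d = 0})
    omega
  | succ k ih =>
    intro D hk hnd R hR hRD
    let W : AddSubgroup V :=
      { carrier := {x | ∀ d ∈ D, H x d = 0}
        zero_mem' := fun d _ => H_zero_left d
        add_mem' := fun {a b} ha hb d hd => by rw [H_add_left, ha d hd, hb d hd, add_zero]
        neg_mem' := fun {a} ha d hd => by rw [H_neg_left, ha d hd, neg_zero] }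
    have hsmul : ∀ (c : F) (x : V), x ∈ W → c • x ∈ W := fun c x hx d hd => by
      rw [H_smul_left, hx d hd, mul_zero]
    have hgW : ∀ g ∈ suFix D, ∀ x ∈ W, app g x ∈ W := fun g hg x hx d hd => by
      rw [← hg d hd, app_H, hx d hd]
    have htriv : (∀ g ∈ R, g = 1) → ∃ S, R ≤ S ∧ S ≤ suFix D ∧ IsPGroup 2 S ∧ GoodGen S := fun h =>
      ⟨⊥, fun g hg => Subgroup.mem_bot.2 (h g hg), bot_le, IsPGroup.of_bot, goodGen_bot⟩
    by_cases hW : ∃ w ∈ W, w ≠ 0
    · obtain ⟨v, hv, hv0, hRv⟩ := exists_fixed_ne (X := V) add_self_vec hR
        (fun g x => app g x) W hW app_one app_mul app_zero (fun g hg => hgW g (hRD hg))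
      by_cases hiso : ∃ e ∈ W, e ≠ 0 ∧ H e e = 0 ∧ ∀ g ∈ R, app g e = e
      · obtain ⟨e, he, he0, hee, hRe⟩ := hiso
        obtain ⟨f, hf, hfe, hff⟩ : ∃ f ∈ W, H f e = 1 ∧ H f f = 0 := by
          obtain ⟨y, hy, hye⟩ : ∃ y ∈ W, H e y ≠ 0 := by
            by_contra hne
            push Not at hne
            exact he0 (hnd e he hne)
          have hye' : H y e ≠ 0 := fun h => hye (H_eq_zero_comm.1 h)
          obtain ⟨z, hz, hze⟩ : ∃ z ∈ W, H z e = 1 :=
            ⟨(H y e)⁻¹ • y, hsmul _ y hy, by rw [H_smul_left, inv_mul_cancel₀ hye']⟩
          have hez : H e z = 1 := by rw [← H_flip z e, hze, map_one]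
          obtain ⟨t, ht⟩ := exists_trace (F := F) (q := q) (c := - H z z) (by rw [map_neg, H_self_fixed])
          refine ⟨z + t • e, add_mem hz (hsmul t e he), by simp [hze, hee], ?_⟩
          simp [hee, hze, hez]
          linear_combination ht
        have hef : H e f = 1 := by rw [← H_flip f e, hfe, map_one]
        set D' : Set V := D ∪ {e, f} with hD'
        have hcard : Nat.card {x : V // ∀ d ∈ D', H x d = 0} ≤ k := by
          have hlt : Nat.card {x : V // ∀ d ∈ D', H x d = 0} < Nat.card {x : V // ∀ d ∈ D, H x d = 0} := by
            refine Set.Finite.card_lt_card (Set.toFinite {x : V | ∀ d ∈ D, H x d = 0}) ?_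
            exact ⟨fun x hx d hd => hx d (Or.inl hd),
              fun hle => one_ne_zero (hfe.symm.trans (hle hf e (Or.inr (by simp))))⟩
          omega
        have hnd' : ∀ x, (∀ d ∈ D', H x d = 0) → (∀ y, (∀ d ∈ D', H y d = 0) → H x y = 0) → x = 0 := by
          intro x hx hx'
          refine hnd x (fun d hd => hx d (Or.inl hd)) fun y hy => ?_
          have hxe := hx e (Or.inr (by simp))
          have hxf := hx f (Or.inr (by simp))
          have h := hx' (y - H y f • e - H y e • f) fun d hd => by
            rcases hd with hd | hd | hd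
            · simp [hy d hd, he d hd, hf d hd]
            · subst hd; simp [hee, hfe]
            · simp only [Set.mem_singleton_iff] at hd; subst hd; simp [hff, hef]
          simpa [hxe, hxf] using h
        let A : Subgroup SUn :=
          { carrier := {g | ∃ (a : V) (_ : a ∈ W) (t : F) (h : IsQ q e a t), g = qE e a t h}
            one_mem' := ⟨0, zero_mem _, 0, isQ_zero hee, (qE_one hee).symm⟩
            mul_mem' := by
              rintro _ _ ⟨a, ha, t, h, rfl⟩ ⟨b, hb, s, h', rfl⟩
              exact ⟨a + b, add_mem ha hb, _, _, qE_mul h h'⟩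
            inv_mem' := by
              rintro _ ⟨a, ha, t, h, rfl⟩
              have h' : IsQ q e (-a) (σ t) := by
                refine ⟨h.1, by simp [h.2.1], ?_⟩
                simp only [qb_qb, H_neg_left, H_neg_right]
                linear_combination h.2.2
              refine ⟨-a, neg_mem ha, σ t, h', inv_eq_of_mul_eq_one_right ?_⟩
              rw [qE_mul, ← qE_one hee]
              refine qE_congr (add_neg_cancel a) ?_
              rw [H_neg_left]
              linear_combination h.2.2 }
        have hA : IsPGroup 2 A := by
          rintro ⟨_, a, ha, t, h, rfl⟩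
          exact ⟨2, Subtype.ext (qE_pow_sq 2 h)⟩
        have hAg : GoodGen A := goodGen_of_forall fun g hg => by
          obtain ⟨a, ha, t, h, rfl⟩ := hg
          obtain ⟨c, hc⟩ := exists_trace (F := F) (q := q) (c := 1) (map_one _)
          have hy : IsQ q e (c • a) (c * σ c * t) := h.smul c
          have ht : IsQ q e (a + a) (t + t - H a a) := h.add h
          rw [pow_two, qE_mul h h]
          have key : qE e (a + a) (t + t - H a a) ht = ⁅qE e a t h, qE e (c • a) _ hy⁆ := by
            symm
            rw [commutatorElement_def, mul_inv_eq_iff_eq_mul, mul_inv_eq_iff_eq_mul, qE_mul, qE_mul, qE_mul]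
            refine qE_congr ?_ ?_
            · rw [add_self_vec, zero_add]
              exact add_comm _ _
            · simp only [add_self_vec, zero_add, H_add_left, H_smul_left, H_smul_right, H_zero_left, H_zero_right,
                add_zero, sub_zero]
              linear_combination (H a a) * hc + (-(c * H a a) - t + H a a) * CharTwo.two_eq_zero (R := F)
          rw [key]
          exact Subgroup.commutator_mem_commutator ⟨a, ha, t, h, rfl⟩ ⟨c • a, hsmul c a ha, _, hy, rfl⟩
        obtain ⟨S, hS, hSle, hSp, hSg⟩ := step (L := suFix (D ∪ {e})) (A := A) (K' := suFix D') hR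
          (fun g hg d hd => by
            rcases hd with hd | hd
            · exact hRD hg d hd
            · rw [Set.mem_singleton_iff.1 hd]; exact hRe g hg)
          hA hAg
          (by
            rintro g hg _ ⟨a, ha, t, h, rfl⟩
            have hge : app g e = e := hg e (Or.inr rfl)
            have h' := h.app g
            rw [hge] at h'
            refine ⟨app g a, hgW g (fun d hd => hg d (Or.inl hd)) a ha, t, h', (qE_conj g h).trans ?_⟩
            refine su_ext fun v => ?_
            show app _ v = app _ v
            simp only [qE_apply, hge])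
          (fun g hg d hd => hg d (by
            rcases hd with hd | hd
            · exact Or.inl hd
            · exact Or.inr (Or.inl hd)))
          (by
            intro g hg
            have hge : app g e = e := hg e (Or.inr rfl)
            set y := app g f with hy
            have hyW : y ∈ W := hgW g (fun d hd => hg d (Or.inl hd)) f hf
            have hye : H y e = 1 := by
              conv_lhs => rw [← hge, hy, app_H]
              exact hfe
            have hey : H e y = 1 := by rw [← H_flip y e, hye, map_one]
            have hyy : H y y = 0 := by rw [hy, app_H, hff]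
            have h : IsQ q e (y - f) (H f (y - f)) := by
              refine ⟨hee, by rw [H_sub_left, hye, hfe, sub_self], ?_⟩
              simp only [H_sub_left, H_sub_right, map_sub, H_flip, hyy, hff]
              simp
            set a := qE e (y - f) (H f (y - f)) h with ha
            have haA : a ∈ A := ⟨y - f, sub_mem hyW hf, _, h, rfl⟩
            have haD : ∀ d ∈ D ∪ {e}, app a d = d := by
              rintro d (hd | hd)
              · have h1 : H d e = 0 := H_eq_zero_comm.1 (he d hd)
                have h2 : H d (y - f) = 0 := H_eq_zero_comm.1 (sub_mem hyW hf d hd)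
                rw [ha, qE_apply, h1, h2]; simp
              · have h2 : H e (y - f) = 0 := H_eq_zero_comm.1 h.2.1
                rw [Set.mem_singleton_iff.1 hd, ha, qE_apply, hee, h2]; simp
            have haf : app a f = y := by
              rw [ha, qE_apply, hfe]
              module
            refine ⟨a⁻¹, inv_mem haA, fun d hd => ?_⟩
            have hinv : ∀ d ∈ D ∪ {e}, app a⁻¹ d = d := fun d hd => by
              conv_lhs => rw [← haD d hd, app_inv]
            rw [app_mul]
            rcases hd with hd | hd | hd
            · rw [hg d (Or.inl hd), hinv d (Or.inl hd)]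
            · rw [hd, hge, hinv e (Or.inr rfl)]
            · rw [Set.mem_singleton_iff.1 hd, ← hy, ← haf, app_inv])
          (fun R' hR' hle => ih D' hcard hnd' R' hR' hle)
        refine ⟨S, hS, hSle.trans (sup_le ?_ ?_), hSp, hSg⟩
        · rintro _ ⟨a, ha, t, h, rfl⟩ d hd
          have h1 : H d e = 0 := H_eq_zero_comm.1 (he d hd)
          have h2 : H d a = 0 := H_eq_zero_comm.1 (ha d hd)
          rw [qE_apply, h1, h2]; simp
        · exact fun g hg d hd => hg d (Or.inl hd)
      · push Not at hiso
        have hvv : H v v ≠ 0 := fun h => by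
          obtain ⟨g, hg, hne⟩ := hiso v hv hv0 h
          exact hne (hRv g hg)
        refine htriv fun g hg => ?_
        by_cases hW' : ∃ w ∈ W ⊓ (Hl (q := q) v).toAddMonoidHom.ker, w ≠ 0
        · exfalso
          obtain ⟨y, ⟨hy, hyv⟩, hy0, hRy⟩ := exists_fixed_ne (X := V) add_self_vec hR
            (fun g x => app g x) (W ⊓ (Hl (q := q) v).toAddMonoidHom.ker) hW' app_one app_mul app_zero
            (fun g hg x hx => ⟨hgW g (hRD hg) x hx.1, by
              show H (app g x) v = 0
              rw [← hRv g hg, app_H]; exact hx.2⟩)
          have hyv' : H y v = 0 := hyv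
          have hvy : H v y = 0 := H_eq_zero_comm.1 hyv'
          obtain ⟨a, ha⟩ := exists_norm (F := F) (q := q) (c := - H y y / H v v)
            (by rw [map_div₀, map_neg, H_self_fixed, H_self_fixed])
          have hz : a • v + y ≠ 0 := fun h0 => by
            have hyy : H y y = 0 := by
              have h1 := congrArg (fun x => H x y) h0
              simpa [hvy] using h1
            obtain ⟨g, hg, hne⟩ := hiso y hy hy0 hyy
            exact hne (hRy g hg)
          obtain ⟨g, hg, hne⟩ := hiso (a • v + y) (add_mem (hsmul a v hv) hy) hz (by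
            simp only [H_add_left, H_add_right, H_smul_left, H_smul_right, hvy, hyv']
            have : a * σ a * H v v = - H y y := by rw [ha, div_mul_cancel₀ _ hvv]
            linear_combination this)
          exact hne (by rw [app_add, app_smul, hRv g hg, hRy g hg])
        · push Not at hW'
          refine su_ext fun x => ?_
          show app g x = app (1 : SUn) x
          rw [app_one]
          refine sub_eq_zero.1 (hW' _ ⟨fun d hd => ?_, ?_⟩)
          · rw [H_sub_left, sub_eq_zero]
            conv_lhs => rw [← hRD hg d hd, app_H]
          · show H (app g x - x) v = 0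
            rw [H_sub_left, sub_eq_zero]
            conv_lhs => rw [← hRv g hg, app_H]
    · push Not at hW
      refine htriv fun g hg => su_ext fun x => ?_
      show app g x = app (1 : SUn) x
      rw [app_one]
      refine sub_eq_zero.1 (hW _ fun d hd => ?_)
      rw [H_sub_left, sub_eq_zero]
      conv_lhs => rw [← hRD hg d hd, app_H]

theorem psu : SylowGood (Cfsg.PSU n F q) := by
  haveI := finite_field (F := F) (q := q)
  refine SylowGood.of_surjective (sylowGood_of_exists fun R hR => ?_)
    (f := AutPSU.proj n F q) AutPSU.proj_surjective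
  obtain ⟨S, h1, -, h2, h3⟩ := su_rec (Nat.card {x : V // ∀ d ∈ (∅ : Set V), H x d = 0}) ∅ le_rfl
    (fun x _ h => eq_zero_of_orth' fun v => h v fun d hd => absurd hd (Set.notMem_empty d)) R hR
    (fun g _ d hd => absurd hd (Set.notMem_empty d))
  exact ⟨S, h1, h2, h3⟩

end Cfsg.Agent.LieSylow
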